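import Groth.Agent.DRingLib.TorDim
import Groth.Agent.WEField.TorDim
import Groth.Agent.RegLocal.GlobalDim
import Mathlib

/-! Modules over regular rings of finite Krull dimension have bounded tor dimension. -/

set_option autoImplicit false
universe u
open CategoryTheory

namespace Groth.Agent.RegTor

theorem pd_localized_ker {A : Type u} [CommRing A] (F M : Type u) [AddCommGroup F] [Module A F] [Module.Free A F]
    [AddCommGroup M] [Module A M] (g : F →ₗ[A] M) (hg : Function.Surjective g) (m : Ideal A) [m.IsPrime] (d : ℕ)
    (h : HasProjectiveDimensionLT
      (ModuleCat.of (Localization.AtPrime m) (LocalizedModule m.primeCompl M)) (d + 1 + 1)) :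
    HasProjectiveDimensionLT
      (ModuleCat.of (Localization.AtPrime m) (LocalizedModule m.primeCompl (LinearMap.ker g))) (d + 1) := by
  have hex : Function.Exact (LocalizedModule.map m.primeCompl (LinearMap.ker g).subtype)
      (LocalizedModule.map m.primeCompl g) :=
    LocalizedModule.map_exact m.primeCompl (LinearMap.ker g).subtype g (LinearMap.exact_subtype_ker_map g)
  haveI : Module.Free (Localization m.primeCompl) (LocalizedModule m.primeCompl F) :=
    Module.free_of_isLocalizedModule (Rₛ := Localization m.primeCompl) (Mₛ := LocalizedModule m.primeCompl F)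
      m.primeCompl (LocalizedModule.mkLinearMap m.primeCompl F)
  let T : ShortComplex (ModuleCat.{u} (Localization.AtPrime m)) :=
    ShortComplex.moduleCatMk (LocalizedModule.map m.primeCompl (LinearMap.ker g).subtype)
      (LocalizedModule.map m.primeCompl g) (LinearMap.ext fun x => hex.apply_apply_eq_zero x)
  have hT : T.ShortExact :=
    { exact := (ShortComplex.ShortExact.moduleCat_exact_iff_function_exact _).2 hex
      mono_f := (ModuleCat.mono_iff_injective _).2
        (LocalizedModule.map_injective m.primeCompl (LinearMap.ker g).subtype Subtype.val_injective)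
      epi_g := (ModuleCat.epi_iff_surjective _).2 (LocalizedModule.map_surjective m.primeCompl g hg) }
  haveI : Projective T.X₂ :=
    (IsProjective.iff_projective (R := Localization.AtPrime m) (LocalizedModule m.primeCompl F)).1 inferInstance
  exact hT.hasProjectiveDimensionLT_X₁ (d + 1) (hasProjectiveDimensionLT_of_ge _ 1 _ (by omega)) h

theorem hasTorDimLE_of_localized {A : Type u} [CommRing A] : ∀ (d : ℕ) (M : Type u) [AddCommGroup M] [Module A M],
    (∀ (m : Ideal A) [m.IsMaximal], HasProjectiveDimensionLT
      (ModuleCat.of (Localization.AtPrime m) (LocalizedModule m.primeCompl M)) (d + 1)) →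
    DRing.HasTorDimLE A d M := by
  intro d
  induction d with
  | zero =>
    intro M _ _ h
    refine (Groth.Agent.DRingLib.hasTorDimLE_zero_iff M).2 (Module.flat_of_localized_maximal M fun m _ => ?_)
    haveI := h m
    haveI : Projective (ModuleCat.of (Localization.AtPrime m) (LocalizedModule m.primeCompl M)) :=
      projective_iff_hasProjectiveDimensionLT_one.2 (by simpa using h m)
    haveI : Module.Projective (Localization.AtPrime m) (LocalizedModule m.primeCompl M) :=
      (IsProjective.iff_projective (R := Localization.AtPrime m) _).2 inferInstance
    exact Module.Flat.trans A (Localization.AtPrime m) _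
  | succ d ih =>
    intro M _ _ h
    let g := Finsupp.linearCombination A (id : M → M)
    have hg : Function.Surjective g := fun x => ⟨Finsupp.single x 1, by simp [g]⟩
    refine Groth.Agent.WEField.torDim_shift_up _ _ M (LinearMap.ker g).subtype g Subtype.val_injective hg
      (LinearMap.exact_subtype_ker_map g) d (ih (LinearMap.ker g) fun m _ => ?_)
    exact pd_localized_ker (M →₀ A) M g hg m d (h m)

theorem hasTorDimLE_of_isRegularRing (A : Type u) [CommRing A] [IsRegularRing A] (d : ℕ)
    (hd : ringKrullDim A ≤ d) (M : Type u) [AddCommGroup M] [Module A M] : DRing.HasTorDimLE A d M := by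
  refine hasTorDimLE_of_localized d M fun m _ => ?_
  have hR : IsRegularLocalRing (Localization.AtPrime m) := IsRegularRing.isRegularLocalRing_localization m
  obtain ⟨e, he⟩ := Groth.Agent.RegLocal.exists_nat_ringKrullDim (R := Localization.AtPrime m)
  have hle : e ≤ d := by
    have h1 : ringKrullDim (Localization.AtPrime m) ≤ ringKrullDim A :=
      (IsLocalization.AtPrime.ringKrullDim_eq_height m _).trans_le Ideal.height_le_ringKrullDim_of_isPrime
    rw [he] at h1
    exact_mod_cast h1.trans hd
  haveI := Groth.Agent.RegLocal.hasProjectiveDimensionLT (Localization.AtPrime m) e he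
    (ModuleCat.of (Localization.AtPrime m) (LocalizedModule m.primeCompl M))
  exact hasProjectiveDimensionLT_of_ge _ (e + 1) _ (by omega)

end Groth.Agent.RegTor
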